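import Mathlib

/-!
Divisibility of geometric sums of integers congruent to one modulo an odd prime.
-/

set_option autoImplicit false

namespace CfsgLib.Metacyclic

variable {p : ℕ}

/-- The geometric sum `1 + r + ... + r^(y-1)`. -/
def geom (r y : ℕ) : ℕ := ∑ l ∈ Finset.range y, r ^ l

theorem geom_mul_sub (r y : ℕ) (hr : 1 ≤ r) : (r - 1) * geom r y + 1 = r ^ y := by
  obtain ⟨s, rfl⟩ : ∃ s, r = s + 1 := ⟨r - 1, by omega⟩
  simp only [Nat.add_sub_cancel, geom]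
  have h := geom_sum_mul_add s y
  linarith

/-- `geom r y` and `y` have the same `p`-part, inside any product. -/
theorem dvd_mul_geom_iff (hp : p.Prime) (hp2 : p ≠ 2) {r : ℕ} (hr : 1 ≤ r) (hpr : p ∣ r - 1)
    (k z y : ℕ) : p ^ k ∣ z * geom r y ↔ p ^ k ∣ z * y := by
  have := Fact.mk hp
  rcases Nat.eq_zero_or_pos y with rfl | hy
  · simp [geom]
  rcases eq_or_lt_of_le hr with rfl | hr1
  · simp [geom]
  have hS0 : geom r y ≠ 0 := by
    have h : r ^ 0 ≤ geom r y := Finset.single_le_sum (f := fun l => r ^ l) (fun i _ => Nat.zero_le _)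
      (Finset.mem_range.2 hy)
    rw [pow_zero] at h
    omega
  have hpr' : ¬ p ∣ r := fun h => by
    have h2 := Nat.dvd_sub h hpr
    rw [show r - (r - 1) = 1 by omega] at h2
    exact hp.one_lt.ne' (Nat.dvd_one.1 h2)
  have hval : padicValNat p (geom r y) = padicValNat p y := by
    have h1 : padicValNat p (r ^ y - 1 ^ y) = padicValNat p (r - 1) + padicValNat p y :=
      padicValNat.pow_sub_pow (hp.odd_of_ne_two hp2) hr1 (by simpa using hpr) hpr' hy.ne'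
    have h2 : r ^ y - 1 ^ y = (r - 1) * geom r y := by
      have h := geom_mul_sub r y hr
      rw [one_pow]; omega
    rw [h2, padicValNat.mul (by omega) hS0] at h1
    omega
  rcases Nat.eq_zero_or_pos z with rfl | hz
  · simp
  rw [padicValNat_dvd_iff_le (mul_ne_zero hz.ne' hS0), padicValNat_dvd_iff_le (mul_ne_zero hz.ne' hy.ne'),
    padicValNat.mul hz.ne' hS0, padicValNat.mul hz.ne' hy.ne', hval]

theorem dvd_geom_iff (hp : p.Prime) (hp2 : p ≠ 2) {r : ℕ} (hr : 1 ≤ r) (hpr : p ∣ r - 1)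
    (k y : ℕ) : p ^ k ∣ geom r y ↔ p ^ k ∣ y := by
  simpa using dvd_mul_geom_iff hp hp2 hr hpr k 1 y

theorem sum_pow_congr (hp : p.Prime) (hp2 : p ≠ 2) {Q : ℤ} {K : ℕ} (hK : 1 ≤ K)
    (hQ : (p : ℤ) ^ K ∣ Q - 1) :
    (p : ℤ) ^ (K + 1) ∣ (∑ i ∈ Finset.range p, Q ^ i) - p ∧ (p : ℤ) ^ (K + 1) ∣ Q ^ p - 1 := by
  obtain ⟨c, hc⟩ := hQ
  have hlin : ∀ i : ℕ, (p : ℤ) ^ (K + 1) ∣ Q ^ i - 1 - (p : ℤ) ^ K * c * i := by
    intro i
    induction i with
    | zero => simp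
    | succ i ih =>
        obtain ⟨d, hd⟩ := ih
        refine ⟨d * Q + c ^ 2 * i * (p : ℤ) ^ (K - 1), ?_⟩
        have h2 : (p : ℤ) ^ (K + 1) * (p : ℤ) ^ (K - 1) = (p : ℤ) ^ K * (p : ℤ) ^ K := by
          rw [← pow_add, ← pow_add]; congr 1; omega
        rw [pow_succ]
        push_cast
        linear_combination Q * hd + ((p : ℤ) ^ K * c * i + 1) * hc - c ^ 2 * i * h2
  have hsum : (p : ℤ) ^ (K + 1) ∣ (∑ i ∈ Finset.range p, Q ^ i) - p := by
    have h1 : (p : ℤ) ^ (K + 1) ∣ ∑ i ∈ Finset.range p, (Q ^ i - 1 - (p : ℤ) ^ K * c * i) :=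
      Finset.dvd_sum fun i _ => hlin i
    rw [Finset.sum_sub_distrib, Finset.sum_sub_distrib, ← Finset.mul_sum] at h1
    simp only [Finset.sum_const, Finset.card_range, nsmul_eq_mul, mul_one] at h1
    obtain ⟨m, hm⟩ := hp.odd_of_ne_two hp2
    have hgauss : (∑ i ∈ Finset.range p, (i : ℤ)) = (p : ℤ) * m := by
      have h := Finset.sum_range_id_mul_two p
      have h' : ((∑ i ∈ Finset.range p, i : ℕ) : ℤ) * 2 = (p : ℤ) * ((p : ℤ) - 1) := by
        rw [show ((p : ℤ) - 1) = ((p - 1 : ℕ) : ℤ) by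
          have := hp.one_le; push_cast [Nat.cast_sub this]; ring]
        exact_mod_cast h
      push_cast at h'
      have hm' : (p : ℤ) = 2 * m + 1 := by exact_mod_cast hm
      refine mul_right_cancel₀ (two_ne_zero (α := ℤ)) ?_
      rw [h', hm']
      ring
    rw [hgauss, show (p : ℤ) ^ K * c * ((p : ℤ) * m) = (p : ℤ) ^ (K + 1) * (c * m) by ring] at h1
    exact (dvd_sub_left (dvd_mul_right _ _)).1 h1
  refine ⟨hsum, ?_⟩
  obtain ⟨e, he⟩ := hsum
  refine ⟨c + (p : ℤ) ^ K * e * c, ?_⟩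
  rw [← mul_geom_sum Q p, hc, show (∑ i ∈ Finset.range p, Q ^ i) = p + (p : ℤ) ^ (K + 1) * e by
    linear_combination he]
  ring

theorem sum_range_mul_pow (R : ℤ) (q j : ℕ) :
    (∑ l ∈ Finset.range (q * j), R ^ l)
      = (∑ i ∈ Finset.range j, (R ^ q) ^ i) * ∑ l ∈ Finset.range q, R ^ l := by
  induction j with
  | zero => simp
  | succ j ihj =>
      rw [Nat.mul_succ, Finset.sum_range_add, ihj, Finset.sum_range_succ, add_mul]
      congr 1
      rw [Finset.mul_sum]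
      exact Finset.sum_congr rfl fun l _ => by rw [← pow_mul, ← pow_add]

/-- For `R ≡ 1` modulo `p^k` the sum of `p^γ` powers is `p^γ` modulo `p^(k+γ)`. -/
theorem geom_pow_congr (hp : p.Prime) (hp2 : p ≠ 2) {R : ℤ} {k : ℕ} (hk : 1 ≤ k)
    (hR : (p : ℤ) ^ k ∣ R - 1) (γ : ℕ) :
    (p : ℤ) ^ (k + γ) ∣ (∑ l ∈ Finset.range (p ^ γ), R ^ l) - (p : ℤ) ^ γ ∧
      (p : ℤ) ^ (k + γ) ∣ R ^ p ^ γ - 1 := by
  induction γ with
  | zero => simpa using hR
  | succ γ ih =>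
      obtain ⟨⟨d, hd⟩, h2⟩ := ih
      obtain ⟨⟨e, he⟩, h4⟩ := sum_pow_congr hp hp2 (le_add_right hk) h2
      refine ⟨?_, by rw [pow_succ p, pow_mul, ← Nat.add_assoc]; exact h4⟩
      have hsplit : (∑ l ∈ Finset.range (p ^ (γ + 1)), R ^ l)
          = (∑ i ∈ Finset.range p, (R ^ p ^ γ) ^ i) * ∑ l ∈ Finset.range (p ^ γ), R ^ l := by
        rw [pow_succ, sum_range_mul_pow]
      rw [hsplit]
      refine ⟨d + e * ((p : ℤ) ^ γ) + (p : ℤ) ^ (k + γ) * e * d, ?_⟩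
      rw [show (∑ i ∈ Finset.range p, (R ^ p ^ γ) ^ i) = p + (p : ℤ) ^ (k + γ + 1) * e by
          linear_combination he,
        show (∑ l ∈ Finset.range (p ^ γ), R ^ l) = (p : ℤ) ^ γ + (p : ℤ) ^ (k + γ) * d by
          linear_combination hd]
      ring

/-- A number prime to `p` is invertible modulo every power of `p`. -/
theorem exists_inverse (hp : p.Prime) {w : ℕ} (hw : ¬ p ∣ w) (α : ℕ) :
    ∃ u : ℕ, (p : ℤ) ^ α ∣ (w : ℤ) * u - 1 := by
  rcases Nat.eq_zero_or_pos α with rfl | hα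
  · exact ⟨0, by simp⟩
  have hco : w.Coprime (p ^ α) := Nat.Coprime.pow_right α (hp.coprime_iff_not_dvd.2 hw).symm
  obtain ⟨u, -, hu⟩ := Nat.exists_mul_mod_eq_one_of_coprime hco (Nat.one_lt_pow hα.ne' hp.one_lt)
  refine ⟨u, ?_⟩
  have h := Nat.div_add_mod (w * u) (p ^ α)
  rw [hu] at h
  refine ⟨((w * u / p ^ α : ℕ) : ℤ), ?_⟩
  have h' : ((p ^ α * (w * u / p ^ α) + 1 : ℕ) : ℤ) = ((w * u : ℕ) : ℤ) := by rw [h]
  rw [Nat.cast_add, Nat.cast_mul, Nat.cast_pow, Nat.cast_one, Nat.cast_mul] at h'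
  linear_combination -h'

end CfsgLib.Metacyclic
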