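import Cfsg.Agent.MetacyclicPGroup.Basic
import Cfsg.Agent.Metacyclic.Arith

/-!
Class sizes, power subgroups, centralizers of subgroups and splittings of metacyclic `p`-groups
of odd order, in the coordinates of `CfsgLib.MetacyclicPGroup.Data`.
-/

set_option autoImplicit false
set_option linter.style.haveILetI false

namespace CfsgLib.MetacyclicPGroup.Data

open CfsgLib.Metacyclic

variable {G : Type*} [Group G] [Finite G] {p : ℕ} [Fact p.Prime] (D : Data G p)

omit [Finite G] in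
theorem natCast_le_of_dvd {x y : ℕ} (h : (p : ℤ) ^ x ∣ (p : ℤ) ^ y) : x ≤ y :=
  (Nat.pow_dvd_pow_iff_le_right (Fact.out : p.Prime).one_lt).mp (by exact_mod_cast h)

omit [Finite G] [Fact p.Prime] in
theorem mul_pow_geom {z w : G} {s : ℕ} (h : w * z * w⁻¹ = z ^ s) (P : ℕ) :
    (z * w) ^ P = z ^ geom s P * w ^ P := by
  induction P with
  | zero => simp [geom]
  | succ P ih =>
      have hg : geom s (P + 1) = s * geom s P + 1 := geom_sum_succ
      rw [pow_succ' (z * w), ih, hg, pow_succ' w, pow_succ', pow_mul, ← h, conj_pow]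
      group

omit [Finite G] [Fact p.Prime] in
theorem dvd_int_mul_geom_iff (hp : p.Prime) (hp2 : p ≠ 2) {s : ℕ} (hs : 1 ≤ s) (hps : p ∣ s - 1)
    (q : ℕ) (n : ℤ) (P : ℕ) : (p : ℤ) ^ q ∣ n * (geom s P : ℤ) ↔ (p : ℤ) ^ q ∣ n * (P : ℤ) := by
  rw [← Nat.cast_pow, Int.natCast_dvd, Int.natCast_dvd, Int.natAbs_mul, Int.natAbs_mul,
    Int.natAbs_natCast, Int.natAbs_natCast]
  exact dvd_mul_geom_iff hp hp2 hs hps q _ P

section
include D
set_option linter.unusedSectionVars false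

theorem isPGroup : IsPGroup p G := IsPGroup.of_card D.card_eq

theorem zpow_a_eq_one_iff (t : ℤ) : D.a ^ t = 1 ↔ (p : ℤ) ^ D.α ∣ t := by
  rw [← orderOf_dvd_iff_zpow_eq_one, D.hα]
  push_cast
  rfl

/-- Conjugation acts on the normal cyclic subgroup by exponents congruent to one modulo `p`. -/
theorem exists_conj_exp (w : G) :
    ∃ s : ℕ, 1 ≤ s ∧ p ∣ s - 1 ∧ ∀ z ∈ Subgroup.zpowers D.a, w * z * w⁻¹ = z ^ s := by
  rcases Nat.eq_zero_or_pos D.α with h0 | hpos
  · have ha : D.a = 1 := orderOf_eq_one_iff.mp (by rw [D.hα, h0, pow_zero])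
    exact ⟨1, le_rfl, by simp, fun z hz => by simp_all [Subgroup.zpowers_one_eq_bot]⟩
  obtain ⟨s₀, hs₀⟩ := (mem_powers_iff_mem_zpowers.mpr (D.normal.conj_mem D.a (Subgroup.mem_zpowers _) w) :
    w * D.a * w⁻¹ ∈ Submonoid.powers D.a)
  have hs : w * D.a * w⁻¹ = D.a ^ (s₀ + p ^ D.α) := by
    rw [pow_add, ← D.hα, pow_orderOf_eq_one, mul_one]; exact hs₀.symm
  generalize hsd : s₀ + p ^ D.α = s at hs
  have hs1 : 1 ≤ s := hsd ▸ le_add_left (pow_pos (Fact.out : p.Prime).pos _)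
  have hall : ∀ z ∈ Subgroup.zpowers D.a, w * z * w⁻¹ = z ^ s := by
    rintro z ⟨t, rfl⟩
    simp only
    rw [← conj_zpow, hs, ← zpow_natCast D.a, ← zpow_natCast (D.a ^ t), ← zpow_mul, ← zpow_mul,
      mul_comm]
  refine ⟨s, hs1, ?_, hall⟩
  have hiter : ∀ l : ℕ, w ^ l * D.a * (w ^ l)⁻¹ = D.a ^ (s ^ l) := by
    intro l
    induction l with
    | zero => simp
    | succ l ih =>
        calc w ^ (l + 1) * D.a * (w ^ (l + 1))⁻¹ = w * (w ^ l * D.a * (w ^ l)⁻¹) * w⁻¹ := by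
              rw [pow_succ']; group
          _ = D.a ^ (s ^ (l + 1)) := by
              rw [ih, hall _ (pow_mem (Subgroup.mem_zpowers _) _), ← pow_mul, pow_succ]
  obtain ⟨k, hk⟩ := D.isPGroup w
  have h1 := hiter (p ^ k)
  rw [hk] at h1
  have h2 : D.a ^ (((s ^ p ^ k : ℕ) : ℤ) - 1) = 1 := by
    rw [zpow_sub_one, zpow_natCast, ← h1]; group
  rw [D.zpow_a_eq_one_iff] at h2
  have h3 : (p : ℤ) ∣ ((s ^ p ^ k : ℕ) : ℤ) - 1 := (dvd_pow_self _ hpos.ne').trans h2
  rw [← ZMod.intCast_zmod_eq_zero_iff_dvd] at h3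
  push_cast at h3
  rw [ZMod.pow_card_pow] at h3
  rw [← ZMod.natCast_eq_zero_iff, Nat.cast_sub hs1, Nat.cast_one]
  exact h3

/-- Powers in coordinates. -/
theorem pow_coord (hp : p ≠ 2) (n k : ℤ) (P : ℕ) :
    ∃ g : ℕ, (D.a ^ n * D.b ^ k) ^ P = D.a ^ (n * g) * D.b ^ (k * P) ∧
      ∀ q : ℕ, (p : ℤ) ^ q ∣ n * g ↔ (p : ℤ) ^ q ∣ n * P := by
  obtain ⟨s, hs1, hps, hs⟩ := D.exists_conj_exp (D.b ^ k)
  refine ⟨geom s P, ?_, fun q => dvd_int_mul_geom_iff Fact.out hp hs1 hps q n P⟩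
  rw [mul_pow_geom (hs _ ⟨n, rfl⟩) P, zpow_mul, zpow_mul, zpow_natCast, zpow_natCast]

theorem comm_mem_zpowers (c w : G) : c * w * c⁻¹ * w⁻¹ ∈ Subgroup.zpowers D.a := by
  haveI := D.normal
  rw [← QuotientGroup.eq_one_iff]
  have hπa : ∀ t : ℤ, ((D.a ^ t : G) : G ⧸ Subgroup.zpowers D.a) = 1 := fun t =>
    (QuotientGroup.eq_one_iff _).mpr ⟨t, rfl⟩
  obtain ⟨n, k, rfl⟩ := D.cover c
  obtain ⟨n', k', rfl⟩ := D.cover w
  simp only [QuotientGroup.mk_mul, QuotientGroup.mk_inv, hπa, one_mul, QuotientGroup.mk_zpow]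
  group

/-- Regularity: a commutator has order dividing `P` as soon as a `P`-th power commutes. -/
theorem comm_pow_eq_one (hp : p ≠ 2) {c w : G} {P : ℕ} (h : Commute c (w ^ P)) :
    (c * w * c⁻¹ * w⁻¹) ^ P = 1 := by
  have hz := D.comm_mem_zpowers c w
  obtain ⟨s, hs1, hps, hs⟩ := D.exists_conj_exp w
  set z := c * w * c⁻¹ * w⁻¹ with hzd
  have h1 : (z * w) ^ P = z ^ geom s P * w ^ P := mul_pow_geom (hs z hz) P
  have h2 : (z * w) ^ P = w ^ P := by
    rw [show z * w = c * w * c⁻¹ by rw [hzd]; group, conj_pow, h.eq, mul_inv_cancel_right]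
  rw [h2, right_eq_mul, ← orderOf_dvd_iff_pow_eq_one] at h1
  obtain ⟨q, hq⟩ := IsPGroup.iff_orderOf.mp D.isPGroup z
  rw [hq, dvd_geom_iff Fact.out hp hs1 hps, ← hq] at h1
  exact orderOf_dvd_iff_pow_eq_one.mp h1

/-- An element whose `P`-th power commutes with `H` has at most `P` conjugates under `H`. -/
theorem relIndex_centralizer_le (hp : p ≠ 2) {H : Subgroup G} {w : G} {P : ℕ} (hP : 0 < P)
    (h : ∀ c ∈ H, Commute c (w ^ P)) :
    (Subgroup.centralizer ({w} : Set G)).relIndex H ≤ P := by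
  classical
  let f : H → {z : ↥(Subgroup.zpowers D.a) // z ^ P = 1} := fun c =>
    ⟨⟨(c : G) * w * (c : G)⁻¹ * w⁻¹, D.comm_mem_zpowers _ _⟩,
      Subtype.ext (D.comm_pow_eq_one hp (h c c.2))⟩
  have hf : Function.Injective
      (fun q : H ⧸ (Subgroup.centralizer ({w} : Set G)).subgroupOf H => f q.out) := by
    intro q q' hqq
    have heq : (q.out : G) * w * (q.out : G)⁻¹ = (q'.out : G) * w * (q'.out : G)⁻¹ :=
      mul_right_cancel (congrArg (fun z => ((z.1 : ↥(Subgroup.zpowers D.a)) : G)) hqq)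
    rw [← q.out_eq', ← q'.out_eq', QuotientGroup.eq, Subgroup.mem_subgroupOf,
      Subgroup.mem_centralizer_singleton_iff]
    simp only [Subgroup.coe_mul, Subgroup.coe_inv]
    calc (q.out : G)⁻¹ * (q'.out : G) * w
        = (q.out : G)⁻¹ * ((q'.out : G) * w * (q'.out : G)⁻¹) * (q'.out : G) := by group
      _ = w * ((q.out : G)⁻¹ * (q'.out : G)) := by rw [← heq]; group
  refine le_trans (Nat.card_le_card_of_injective _ hf) ?_
  haveI := Fintype.ofFinite ↥(Subgroup.zpowers D.a)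
  rw [Nat.card_eq_fintype_card, Fintype.card_subtype]
  exact IsCyclic.card_pow_eq_one_le hP

theorem pow_a_mem_center : D.a ^ (p ^ D.e) ∈ Subgroup.center G := by
  rw [Subgroup.mem_center_iff]
  intro g
  obtain ⟨n, k, rfl⟩ := D.cover g
  have h1 : Commute D.b (D.a ^ (p ^ D.e)) := by simpa using (D.hcomm 0 D.e).mpr (by simp)
  exact ((((Commute.refl D.a).zpow_left n).pow_right _).mul_left (h1.zpow_left k)).eq

theorem pow_b_mem_center : D.b ^ (p ^ D.e) ∈ Subgroup.center G := by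
  rw [Subgroup.mem_center_iff]
  intro g
  obtain ⟨n, k, rfl⟩ := D.cover g
  have h1 : Commute (D.b ^ (p ^ D.e)) D.a := by simpa using (D.hcomm D.e 0).mpr (by simp)
  exact ((h1.symm.zpow_left n).mul_left (((Commute.refl D.b).zpow_left k).pow_right _)).eq

theorem mem_center_coord (n k : ℤ) :
    D.a ^ n * D.b ^ k ∈ Subgroup.center G ↔ (p : ℤ) ^ D.e ∣ n ∧ (p : ℤ) ^ D.e ∣ k := by
  have hb : (p : ℤ) ^ D.e ∣ k → D.b ^ k ∈ Subgroup.center G := by
    rintro ⟨u, rfl⟩
    rw [← Nat.cast_pow, zpow_mul, zpow_natCast]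
    exact zpow_mem D.pow_b_mem_center u
  constructor
  · intro h
    obtain ⟨i, -, j, -, m, hw, haj, hT, hS, -, -⟩ := D.subgroup_shape (Subgroup.center G)
    have hj : D.e ≤ j := by
      have h1 : Commute D.b (D.a ^ (p ^ j)) := Subgroup.mem_center_iff.mp haj D.b
      simpa using (D.hcomm 0 j).mp (by simpa using h1)
    have hi : D.e ≤ i := by
      have h1 : Commute (D.a ^ m * D.b ^ (p ^ i)) D.a := (Subgroup.mem_center_iff.mp hw D.a).symm
      simpa using (D.commute_gen_iff i 0 m).mp (by simpa using h1)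
    have hk : (p : ℤ) ^ D.e ∣ k := (pow_dvd_pow _ hi).trans (hS n k h)
    refine ⟨(pow_dvd_pow _ hj).trans (hT n ?_), hk⟩
    simpa using mul_mem h (inv_mem (hb hk))
  · rintro ⟨⟨u, rfl⟩, hk⟩
    refine mul_mem ?_ (hb hk)
    rw [← Nat.cast_pow, zpow_mul, zpow_natCast]
    exact zpow_mem D.pow_a_mem_center u

/-- For every subgroup `L` the product `|L| |C(L)|` is at most `|G : G'|²`. -/
theorem card_mul_centralizer_le (L : Subgroup G) :
    Nat.card ↥L * Nat.card ↥(Subgroup.centralizer (L : Set G)) ≤ (commutator G).index ^ 2 := by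
  obtain ⟨i, hi, j, hj, m, hw, haj, -, -, -, hL⟩ := D.subgroup_shape L
  obtain ⟨i', hi', j', hj', m', hw', haj', -, -, -, hC⟩ :=
    D.subgroup_shape (Subgroup.centralizer (L : Set G))
  have h1 : D.e ≤ i + j' := (D.commute_gen_iff i j' m).mp (Subgroup.mem_centralizer_iff.mp haj' _ hw)
  have h2 : D.e ≤ i' + j :=
    (D.commute_gen_iff i' j m').mp (Subgroup.mem_centralizer_iff.mp hw' _ haj).symm
  rw [hL, hC, D.index_commutator, ← pow_add, ← pow_mul]
  exact Nat.pow_le_pow_right (Fact.out : p.Prime).pos (by omega)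

/-- Equality holds when `L` contains the centre. -/
theorem card_mul_centralizer_eq (hp : p ≠ 2) {L : Subgroup G} (hZ : Subgroup.center G ≤ L) :
    Nat.card ↥L * Nat.card ↥(Subgroup.centralizer (L : Set G)) = (commutator G).index ^ 2 := by
  refine le_antisymm (D.card_mul_centralizer_le L) ?_
  have hpp : p.Prime := Fact.out
  obtain ⟨i, hi, j, hj, m, hw, haj, hT, hS, hle, hL⟩ := D.subgroup_shape L
  have hje : j ≤ D.e := by
    have h : D.a ^ ((p ^ D.e : ℕ) : ℤ) ∈ L := by rw [zpow_natCast]; exact hZ D.pow_a_mem_center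
    exact natCast_le_of_dvd (by exact_mod_cast hT _ h)
  have hie : i ≤ D.e := by
    have h : D.a ^ (0 : ℤ) * D.b ^ ((p ^ D.e : ℕ) : ℤ) ∈ L := by
      rw [zpow_zero, one_mul, zpow_natCast]; exact hZ D.pow_b_mem_center
    exact natCast_le_of_dvd (by exact_mod_cast hS 0 _ h)
  set x := D.a ^ (p ^ j) with hxd
  set w := D.a ^ m * D.b ^ (p ^ i) with hwd
  have hx : (Subgroup.centralizer ({x} : Set G)).index ≤ p ^ (D.e - j) := by
    rw [← Subgroup.relIndex_top_right]
    refine D.relIndex_centralizer_le hp (pow_pos hpp.pos _) fun c _ => ?_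
    rw [hxd, ← pow_mul, ← pow_add, Nat.add_sub_cancel' hje]
    exact Subgroup.mem_center_iff.mp D.pow_a_mem_center c
  have hw' : (Subgroup.centralizer ({w} : Set G)).relIndex (Subgroup.centralizer ({x} : Set G))
      ≤ p ^ (D.e - i) := by
    refine D.relIndex_centralizer_le hp (pow_pos hpp.pos _) fun c hc => ?_
    obtain ⟨g, hg, -⟩ := D.pow_coord hp m (((p ^ i : ℕ) : ℤ)) (p ^ (D.e - i))
    rw [zpow_natCast] at hg
    have hb : ((p ^ i : ℕ) : ℤ) * ((p ^ (D.e - i) : ℕ) : ℤ) = ((p ^ D.e : ℕ) : ℤ) := by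
      rw [← Nat.cast_mul, ← pow_add, Nat.add_sub_cancel' hie]
    rw [hb, zpow_natCast] at hg
    have hmem : D.a ^ (m * (g : ℤ)) ∈ L := by
      have h := mul_mem (pow_mem hw (p ^ (D.e - i))) (inv_mem (hZ D.pow_b_mem_center))
      rwa [hg, mul_inv_cancel_right] at h
    obtain ⟨u, hu⟩ := hT _ hmem
    rw [hwd, hg]
    refine Commute.mul_right ?_ (Subgroup.mem_center_iff.mp D.pow_b_mem_center c)
    rw [hu, ← Nat.cast_pow, zpow_mul, zpow_natCast]
    exact Commute.zpow_right (Subgroup.mem_centralizer_singleton_iff.mp hc) u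
  have hle' : Subgroup.centralizer ({w} : Set G) ⊓ Subgroup.centralizer ({x} : Set G) ≤
      Subgroup.centralizer (L : Set G) := by
    rintro c ⟨hcw, hcx⟩
    rw [Subgroup.mem_centralizer_iff]
    intro l hl
    have hl' : L ≤ Subgroup.centralizer ({c} : Set G) := hle.trans <| (Subgroup.closure_le _).mpr (by
      rintro y (rfl | rfl)
      · exact Subgroup.mem_centralizer_singleton_iff.mpr
          (Subgroup.mem_centralizer_singleton_iff.mp hcx).symm
      · exact Subgroup.mem_centralizer_singleton_iff.mpr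
          (Subgroup.mem_centralizer_singleton_iff.mp hcw).symm)
    exact Subgroup.mem_centralizer_singleton_iff.mp (hl' hl)
  have hidx : (Subgroup.centralizer (L : Set G)).index ≤ p ^ (D.e - i + (D.e - j)) := by
    refine le_trans (Nat.le_of_dvd ?_ (Subgroup.index_dvd_of_le hle')) ?_
    · exact Nat.pos_of_ne_zero Subgroup.index_ne_zero_of_finite
    rw [← Subgroup.relIndex_mul_index (inf_le_right : _ ≤ Subgroup.centralizer ({x} : Set G)),
      Subgroup.inf_relIndex_right, pow_add]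
    exact Nat.mul_le_mul hw' hx
  have hcard := (Subgroup.centralizer (L : Set G)).card_mul_index
  rw [D.card_eq] at hcard
  refine Nat.le_of_mul_le_mul_right ?_ (pow_pos hpp.pos (D.e - i + (D.e - j)))
  calc (commutator G).index ^ 2 * p ^ (D.e - i + (D.e - j))
      = p ^ ((D.α - j) + (D.β - i)) * p ^ (D.α + D.β) := by
        rw [D.index_commutator, ← pow_mul, ← pow_add, ← pow_add]
        congr 1
        have := D.le_alpha
        have := D.le_beta
        omega
    _ = Nat.card ↥L * (Nat.card ↥(Subgroup.centralizer (L : Set G)) *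
          (Subgroup.centralizer (L : Set G)).index) := by rw [hcard, hL]
    _ ≤ Nat.card ↥L * (Nat.card ↥(Subgroup.centralizer (L : Set G)) *
          p ^ (D.e - i + (D.e - j))) := Nat.mul_le_mul_left _ (Nat.mul_le_mul_left _ hidx)
    _ = _ := by ring

/-- Equality holds only when `L` contains the centre. -/
theorem center_le_of_card_mul_centralizer_eq (hp : p ≠ 2) {L : Subgroup G}
    (h : Nat.card ↥L * Nat.card ↥(Subgroup.centralizer (L : Set G)) = (commutator G).index ^ 2) :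
    Subgroup.center G ≤ L := by
  have hC : Subgroup.centralizer ((L ⊔ Subgroup.center G : Subgroup G) : Set G) =
      Subgroup.centralizer (L : Set G) := by
    refine le_antisymm (Subgroup.centralizer_le (SetLike.coe_subset_coe.mpr le_sup_left)) ?_
    rw [Subgroup.le_centralizer_iff, sup_le_iff]
    refine ⟨Subgroup.le_centralizer_iff.mp le_rfl, Subgroup.center_le_centralizer _⟩
  have h2 := D.card_mul_centralizer_eq hp (le_sup_right : _ ≤ L ⊔ Subgroup.center G)
  rw [hC, ← h] at h2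
  have h3 := Nat.eq_of_mul_eq_mul_right Nat.card_pos h2
  exact le_sup_right.trans_eq (Subgroup.eq_of_le_of_card_ge le_sup_left h3.le).symm

/-- The class of `g` has at most `p ^ q` elements exactly when `g ^ p ^ q` is central. -/
theorem index_centralizer_le_iff (hp : p ≠ 2) (g : G) (q : ℕ) :
    (Subgroup.centralizer ({g} : Set G)).index ≤ p ^ q ↔ g ^ (p ^ q) ∈ Subgroup.center G := by
  have hpp : p.Prime := Fact.out
  constructor
  · intro hle
    set L := Subgroup.zpowers g ⊔ Subgroup.center G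
    have hC : Subgroup.centralizer (L : Set G) = Subgroup.centralizer ({g} : Set G) := by
      refine le_antisymm (Subgroup.centralizer_le ?_) ?_
      · simpa using (le_sup_left : _ ≤ L) (Subgroup.mem_zpowers g)
      · rw [Subgroup.le_centralizer_iff, sup_le_iff, Subgroup.zpowers_le]
        refine ⟨?_, Subgroup.center_le_centralizer _⟩
        rw [Subgroup.mem_centralizer_iff]
        intro c hc
        exact Subgroup.mem_centralizer_singleton_iff.mp hc
    have h1 := D.card_mul_centralizer_eq hp (le_sup_right : _ ≤ L)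
    have h2 := D.card_mul_centralizer_eq hp (le_top : Subgroup.center G ≤ (⊤ : Subgroup G))
    have hL : Nat.card ↥L = Nat.card ↥(Subgroup.center G) * (Subgroup.center G).relIndex L := by
      rw [← Subgroup.relIndex_bot_left, ← Subgroup.relIndex_bot_left,
        Subgroup.relIndex_mul_relIndex _ _ _ bot_le (le_sup_right : Subgroup.center G ≤ L)]
    rw [Subgroup.coe_top, Subgroup.centralizer_univ, Subgroup.card_top, ← h1, hC,
      ← (Subgroup.centralizer ({g} : Set G)).card_mul_index,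
      hL] at h2
    have h3 : (Subgroup.center G).relIndex L = (Subgroup.centralizer ({g} : Set G)).index := by
      refine Nat.eq_of_mul_eq_mul_right (Nat.mul_pos (Nat.card_pos (α := Subgroup.center G))
        (Nat.card_pos (α := Subgroup.centralizer ({g} : Set G)))) ?_
      linarith [h2]
    obtain ⟨k, hk⟩ := D.isPGroup.index (Subgroup.centralizer ({g} : Set G))
    rw [hk, Nat.pow_le_pow_iff_right hpp.one_lt] at hle
    have h4 := Subgroup.pow_index_mem ((Subgroup.center G).subgroupOf L)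
      ⟨g, (le_sup_left : _ ≤ L) (Subgroup.mem_zpowers g)⟩
    rw [Subgroup.mem_subgroupOf, SubgroupClass.coe_pow] at h4
    rw [show ((Subgroup.center G).subgroupOf L).index = p ^ k from h3.trans hk] at h4
    rw [← Nat.add_sub_cancel' hle, pow_add, pow_mul]
    exact pow_mem h4 _
  · intro h
    rw [← Subgroup.relIndex_top_right]
    exact D.relIndex_centralizer_le hp (pow_pos hpp.pos _) fun c _ => Subgroup.mem_center_iff.mp h c

theorem pow_mem_center_coord (hp : p ≠ 2) {s : ℕ} (hs : s ≤ D.e) (n k : ℤ) :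
    (D.a ^ n * D.b ^ k) ^ (p ^ (D.e - s)) ∈ Subgroup.center G ↔
      (p : ℤ) ^ s ∣ n ∧ (p : ℤ) ^ s ∣ k := by
  have hp0 : ((p : ℤ) ^ (D.e - s)) ≠ 0 := pow_ne_zero _ (by exact_mod_cast (Fact.out : p.Prime).ne_zero)
  obtain ⟨g, hg, hdvd⟩ := D.pow_coord hp n k (p ^ (D.e - s))
  rw [hg, D.mem_center_coord, hdvd]
  push_cast
  rw [show (p : ℤ) ^ D.e = (p : ℤ) ^ s * (p : ℤ) ^ (D.e - s) by
    rw [← pow_add, Nat.add_sub_cancel' hs], mul_dvd_mul_iff_right hp0, mul_dvd_mul_iff_right hp0]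

/-- The subgroup generated by the `p ^ s`-th powers. -/
theorem mem_closure_pow_iff (hp : p ≠ 2) {s : ℕ} (hs : s ≤ D.e) (g : G) :
    g ∈ Subgroup.closure {x : G | ∃ y : G, y ^ p ^ s = x} ↔
      g ^ (p ^ (D.e - s)) ∈ Subgroup.center G := by
  obtain ⟨n, k, rfl⟩ := D.cover g
  rw [D.pow_mem_center_coord hp hs]
  have hmul : ∀ {t : ℤ}, (p : ℤ) ^ s ∣ t → ∀ x : G,
      x ^ t ∈ Subgroup.zpowers (x ^ (p ^ s)) := by
    rintro t ⟨u, rfl⟩ x
    exact ⟨u, by simp only; rw [← zpow_natCast x, ← zpow_mul, Nat.cast_pow]⟩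
  have hdvd : ∀ (x : G) (t : ℤ), (x ^ (p ^ s)) ^ t = x ^ ((p : ℤ) ^ s * t) := fun x t => by
    rw [← zpow_natCast x, ← zpow_mul, Nat.cast_pow]
  haveI hN : (Subgroup.zpowers (D.a ^ (p ^ s))).Normal := by
    constructor
    intro x hx c
    obtain ⟨t, -, -, ht⟩ := D.exists_conj_exp c
    rw [ht x (Subgroup.zpowers_le.mpr (pow_mem (Subgroup.mem_zpowers D.a) _) hx)]
    exact pow_mem hx t
  constructor
  · intro h
    have hle : Subgroup.closure {x : G | ∃ y : G, y ^ p ^ s = x} ≤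
        Subgroup.zpowers (D.a ^ (p ^ s)) ⊔ Subgroup.zpowers (D.b ^ (p ^ s)) := by
      rw [Subgroup.closure_le]
      rintro _ ⟨y, rfl⟩
      obtain ⟨n', k', rfl⟩ := D.cover y
      obtain ⟨g, hg, hd⟩ := D.pow_coord hp n' k' (p ^ s)
      rw [hg]
      exact mul_mem (Subgroup.mem_sup_left (hmul ((hd s).mpr (by simp)) _))
        (Subgroup.mem_sup_right (hmul (by simp) _))
    obtain ⟨y, ⟨u, rfl⟩, z, ⟨v, rfl⟩, hyz⟩ := Subgroup.mem_sup_of_normal_left.mp (hle h)
    simp only at hyz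
    rw [hdvd, hdvd] at hyz
    refine (D.pow_mem_center_coord hp hs n k).mp ?_
    rw [← hyz]
    exact (D.pow_mem_center_coord hp hs _ _).mpr ⟨dvd_mul_right _ _, dvd_mul_right _ _⟩
  · rintro ⟨hn, hk⟩
    have hsub : ∀ x : G, Subgroup.zpowers (x ^ (p ^ s)) ≤
        Subgroup.closure {x : G | ∃ y : G, y ^ p ^ s = x} := fun x =>
      Subgroup.zpowers_le.mpr (Subgroup.subset_closure ⟨x, rfl⟩)
    exact mul_mem (hsub _ (hmul hn _)) (hsub _ (hmul hk _))

theorem card_closure_pow (hp : p ≠ 2) {s : ℕ} (hs : s ≤ D.e) :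
    Nat.card ↥(Subgroup.closure {x : G | ∃ y : G, y ^ p ^ s = x}) = p ^ ((D.α - s) + (D.β - s)) := by
  obtain ⟨i, -, j, -, m, hw, haj, hT, hS, -, hcard⟩ :=
    D.subgroup_shape (Subgroup.closure {x : G | ∃ y : G, y ^ p ^ s = x})
  have hmem : ∀ n k : ℤ, D.a ^ n * D.b ^ k ∈ Subgroup.closure {x : G | ∃ y : G, y ^ p ^ s = x} ↔
      (p : ℤ) ^ s ∣ n ∧ (p : ℤ) ^ s ∣ k := fun n k => by
    rw [D.mem_closure_pow_iff hp hs, D.pow_mem_center_coord hp hs]
  have hj1 : s ≤ j := natCast_le_of_dvd ((hmem ((p : ℤ) ^ j) 0).mp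
    (by rw [zpow_zero, mul_one, ← Nat.cast_pow, zpow_natCast]; exact haj)).1
  have hi1 : s ≤ i := natCast_le_of_dvd ((hmem m ((p : ℤ) ^ i)).mp
    (by rw [← Nat.cast_pow, zpow_natCast]; exact hw)).2
  have hj2 : j ≤ s := natCast_le_of_dvd (hT _ (by
    simpa using (hmem ((p : ℤ) ^ s) 0).mpr ⟨dvd_rfl, dvd_zero _⟩))
  have hi2 : i ≤ s := natCast_le_of_dvd (hS 0 _ ((hmem 0 ((p : ℤ) ^ s)).mpr ⟨dvd_zero _, dvd_rfl⟩))
  rw [hcard, le_antisymm hj2 hj1, le_antisymm hi2 hi1]

/-- A non-abelian subgroup contains its centralizer. -/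
theorem centralizer_le_of_not_comm (hp : p ≠ 2) {R : Subgroup G} (hR : ¬ IsMulCommutative ↥R) :
    Subgroup.centralizer (R : Set G) ≤ R := by
  obtain ⟨i, hi, j, hj, m, hw, haj, -, -, hle, hcard⟩ := D.subgroup_shape R
  rw [(D.abelian_subgroups R).1, not_le, hcard, D.index_commutator,
    Nat.pow_lt_pow_iff_right (Fact.out : p.Prime).one_lt] at hR
  obtain ⟨i', -, j', -, m', hw', haj', hT', hS', -, -⟩ :=
    D.subgroup_shape (Subgroup.centralizer (R : Set G))
  have hle' := D.le_alpha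
  have h1 : D.e ≤ i + j' := (D.commute_gen_iff i j' m).mp (Subgroup.mem_centralizer_iff.mp haj' _ hw)
  have h2 : D.e ≤ i' + j :=
    (D.commute_gen_iff i' j m').mp (Subgroup.mem_centralizer_iff.mp hw' _ haj).symm
  intro x hx
  obtain ⟨n, k, rfl⟩ := D.cover x
  obtain ⟨u, hu⟩ := (pow_dvd_pow (p : ℤ) (show i + (D.e - i - j) ≤ i' by omega)).trans (hS' n k hx)
  set w := D.a ^ m * D.b ^ (p ^ i) with hwd
  set q := D.e - i - j with hq
  obtain ⟨g, hg, -⟩ := D.pow_coord hp m ((p ^ i : ℕ) : ℤ) (p ^ q)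
  rw [zpow_natCast, ← Nat.cast_mul, ← pow_add, zpow_natCast, ← hwd] at hg
  have hwC : w ^ (p ^ q) ∈ Subgroup.centralizer (R : Set G) := by
    rw [Subgroup.mem_centralizer_iff]
    intro c hc
    have hR' : R ≤ Subgroup.centralizer ({w ^ (p ^ q)} : Set G) := hle.trans <|
      (Subgroup.closure_le _).mpr (by
        rintro y (rfl | rfl)
        · refine Subgroup.mem_centralizer_singleton_iff.mpr ?_
          rw [hg]
          exact ((D.commute_gen_iff (i + q) j _).mpr (by omega)).symm.eq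
        · exact Subgroup.mem_centralizer_singleton_iff.mpr (Commute.self_pow _ _).eq)
    exact Subgroup.mem_centralizer_singleton_iff.mp (hR' hc)
  haveI := D.normal
  obtain ⟨n₁, hn₁⟩ : D.a ^ n * D.b ^ k * ((w ^ (p ^ q)) ^ u)⁻¹ ∈ Subgroup.zpowers D.a := by
    have hπa : ∀ t : ℤ, ((D.a ^ t : G) : G ⧸ Subgroup.zpowers D.a) = 1 := fun t =>
      (QuotientGroup.eq_one_iff _).mpr ⟨t, rfl⟩
    rw [← QuotientGroup.eq_one_iff, hg, hu]
    simp only [QuotientGroup.mk_mul, QuotientGroup.mk_inv, QuotientGroup.mk_zpow, hπa, one_mul,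
      QuotientGroup.mk_pow]
    rw [← zpow_natCast ((D.b : G) : G ⧸ Subgroup.zpowers D.a) (p ^ (i + q)), ← zpow_mul,
      Nat.cast_pow, mul_inv_cancel]
  simp only at hn₁
  have hmemC : D.a ^ n₁ ∈ Subgroup.centralizer (R : Set G) :=
    hn₁ ▸ mul_mem hx (inv_mem (zpow_mem hwC u))
  obtain ⟨v, hv⟩ := (pow_dvd_pow (p : ℤ) (show j ≤ j' by omega)).trans (hT' n₁ hmemC)
  rw [eq_mul_inv_iff_mul_eq.mp hn₁ |>.symm, hv, ← Nat.cast_pow, zpow_mul, zpow_natCast]
  exact mul_mem (zpow_mem haj v) (zpow_mem (pow_mem hw _) u)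

end

end CfsgLib.MetacyclicPGroup.Data
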