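import Cfsg.Agent.Metacyclic.Basic

/-!
A metacyclic `p`-group of odd order is a product of two cyclic subgroups meeting trivially.
-/

set_option autoImplicit false
set_option linter.style.haveILetI false

namespace CfsgLib.MetacyclicPGroup.Data

open CfsgLib.Metacyclic

variable {G : Type*} [Group G] [Finite G] {p : ℕ} [Fact p.Prime] (D : Data G p)

include D in
theorem exists_cyclic_factorization (hp : p ≠ 2) :
    ∃ A B : Subgroup G, IsCyclic ↥A ∧ IsCyclic ↥B ∧ A ⊓ B = ⊥ ∧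
      Nat.card ↥A * Nat.card ↥B = Nat.card G := by
  have hpp : p.Prime := Fact.out
  have hpne : (p : ℤ) ≠ 0 := by exact_mod_cast hpp.ne_zero
  haveI := D.normal
  have hbord : ∀ t : ℤ, D.b ^ t ∈ Subgroup.zpowers D.a ↔ (p : ℤ) ^ D.β ∣ t := D.hβ
  obtain ⟨w₀, hw₀⟩ := (mem_powers_iff_mem_zpowers.mpr ((D.hβ ((p ^ D.β : ℕ) : ℤ)).mpr
    (by push_cast; rfl)) : D.b ^ ((p ^ D.β : ℕ) : ℤ) ∈ Submonoid.powers D.a)
  rw [zpow_natCast] at hw₀
  have hw₀' : D.a ^ w₀ = D.b ^ (p ^ D.β) := hw₀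
  obtain ⟨w, hwlt, hw⟩ : ∃ w : ℕ, w < p ^ D.α ∧ D.b ^ (p ^ D.β) = D.a ^ w := by
    refine ⟨w₀ % p ^ D.α, Nat.mod_lt _ (pow_pos hpp.pos _), ?_⟩
    rw [← hw₀', ← D.hα, pow_mod_orderOf]
  -- a cyclic supplement of `zpowers a` of order dividing `p ^ β` is a complement
  have hfirst : ∀ g : G, g ^ (p ^ D.β) = 1 → (∀ t : ℤ, g ^ t ∈ Subgroup.zpowers D.a → (p : ℤ) ^ D.β ∣ t) →
      ∃ A B : Subgroup G, IsCyclic ↥A ∧ IsCyclic ↥B ∧ A ⊓ B = ⊥ ∧
        Nat.card ↥A * Nat.card ↥B = Nat.card G := by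
    intro g hg hga
    refine ⟨Subgroup.zpowers D.a, Subgroup.zpowers g, inferInstance, inferInstance, ?_, ?_⟩
    · rw [eq_bot_iff]
      rintro x ⟨hxa, t, rfl⟩
      obtain ⟨u, rfl⟩ := hga t hxa
      rw [Subgroup.mem_bot, ← Nat.cast_pow]
      simp only
      rw [zpow_mul, zpow_natCast, hg, one_zpow]
    · rw [Nat.card_zpowers, Nat.card_zpowers, D.hα, D.card_eq, pow_add]
      congr 1
      refine Nat.dvd_antisymm (orderOf_dvd_of_pow_eq_one hg) ?_
      have h := hga (orderOf g) (by rw [zpow_natCast, pow_orderOf_eq_one]; exact one_mem _)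
      exact_mod_cast h
  by_cases hwβ : p ^ D.β ∣ w
  · obtain ⟨w₁, rfl⟩ := hwβ
    obtain ⟨s, hs1, hps, hs⟩ := D.exists_conj_exp D.b
    obtain ⟨c, hc⟩ := (dvd_geom_iff hpp hp hs1 hps D.β (p ^ D.β)).mpr dvd_rfl
    have hc' : ¬ p ∣ c := by
      intro h
      have h1 : p ^ (D.β + 1) ∣ geom s (p ^ D.β) := by
        rw [hc, pow_succ]; exact mul_dvd_mul_left _ h
      rw [dvd_geom_iff hpp hp hs1 hps, Nat.pow_dvd_pow_iff_le_right hpp.one_lt] at h1
      omega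
    obtain ⟨u, hu⟩ := exists_inverse hpp hc' D.α
    refine hfirst (D.a ^ (-((u * w₁ : ℕ) : ℤ)) * D.b) ?_ fun t ht => ?_
    · rw [mul_pow_geom (hs _ ⟨_, rfl⟩), hw, ← zpow_natCast, ← zpow_mul, ← zpow_natCast D.a,
        ← zpow_add, D.zpow_a_eq_one_iff, hc]
      obtain ⟨d, hd⟩ := hu
      refine ⟨-((p : ℤ) ^ D.β * w₁ * d), ?_⟩
      push_cast
      linear_combination -((p : ℤ) ^ D.β * w₁) * hd
    · have hπ : ((D.a ^ (-((u * w₁ : ℕ) : ℤ)) : G) : G ⧸ Subgroup.zpowers D.a) = 1 :=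
        (QuotientGroup.eq_one_iff _).mpr (zpow_mem (Subgroup.mem_zpowers D.a) _)
      rw [← QuotientGroup.eq_one_iff, QuotientGroup.mk_zpow, QuotientGroup.mk_mul, hπ, one_mul,
        ← QuotientGroup.mk_zpow, QuotientGroup.eq_one_iff, hbord] at ht
      exact ht
  · have hw0 : w ≠ 0 := fun h => hwβ (h ▸ dvd_zero _)
    obtain ⟨γ, w', hw', rfl⟩ := Nat.exists_eq_pow_mul_and_not_dvd hw0 p hpp.ne_one
    have hγβ : γ < D.β := lt_of_not_ge fun h => hwβ (Dvd.dvd.mul_right (pow_dvd_pow p h) w')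
    have hγα : γ < D.α := by
      rw [← Nat.pow_lt_pow_iff_right hpp.one_lt]
      refine lt_of_le_of_lt ?_ hwlt
      exact Nat.le_mul_of_pos_right _ (Nat.pos_of_ne_zero fun h => by simp [h] at hw0)
    obtain ⟨u, hu⟩ := exists_inverse hpp hw' D.α
    set k : ℤ := -((p : ℤ) ^ (D.β - γ) * u) with hk
    obtain ⟨s, hs1, hps, hs⟩ := D.exists_conj_exp (D.b ^ k)
    -- the action of `b ^ k` is trivial modulo `p ^ (α - γ)`
    have hsR : (p : ℤ) ^ (D.α - γ) ∣ (s : ℤ) - 1 := by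
      have hcomm : Commute (D.b ^ k) (D.a ^ (p ^ γ)) := by
        have h := (D.hcomm (D.β - γ) γ).mpr (by have := D.le_beta; omega)
        rw [hk, zpow_neg, zpow_mul, ← Nat.cast_pow, zpow_natCast, zpow_natCast]
        exact (h.pow_left u).inv_left
      have h1 : D.a ^ (((p ^ γ : ℕ) : ℤ) * ((s : ℤ) - 1)) = 1 := by
        rw [mul_sub, mul_one, zpow_sub, zpow_mul, zpow_natCast, zpow_natCast,
          ← hs _ (pow_mem (Subgroup.mem_zpowers _) _), hcomm.eq, mul_inv_cancel_right, mul_inv_cancel]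
      rw [D.zpow_a_eq_one_iff, show (p : ℤ) ^ D.α = (p : ℤ) ^ γ * (p : ℤ) ^ (D.α - γ) by
        rw [← pow_add, Nat.add_sub_cancel' hγα.le], Nat.cast_pow,
        mul_dvd_mul_iff_left (pow_ne_zero _ hpne)] at h1
      exact h1
    obtain ⟨hgeom, -⟩ := geom_pow_congr hpp hp (Nat.sub_pos_of_lt hγα) hsR γ
    rw [Nat.sub_add_cancel hγα.le] at hgeom
    set g := D.a * D.b ^ k with hgd
    have hgpow : g ^ (p ^ γ) = 1 := by
      rw [hgd, mul_pow_geom (hs _ (Subgroup.mem_zpowers _)), ← zpow_natCast (D.b ^ k), ← zpow_mul,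
        show k * ((p ^ γ : ℕ) : ℤ) = ((p ^ D.β : ℕ) : ℤ) * (-(u : ℤ)) by
          rw [hk]; push_cast
          rw [show (p : ℤ) ^ D.β = (p : ℤ) ^ (D.β - γ) * (p : ℤ) ^ γ by
            rw [← pow_add, Nat.sub_add_cancel hγβ.le]]
          ring,
        zpow_mul, zpow_natCast, hw, ← zpow_natCast D.a, ← zpow_natCast D.a, ← zpow_mul, ← zpow_add,
        D.zpow_a_eq_one_iff]
      obtain ⟨d, hd⟩ := hgeom
      obtain ⟨d', hd'⟩ := hu
      refine ⟨d - (p : ℤ) ^ γ * d', ?_⟩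
      simp only [geom]
      push_cast
      linear_combination hd - (p : ℤ) ^ γ * hd'
    -- `zpowers g` meets `zpowers b` trivially
    have hmeet : ∀ l : ℕ, g ^ l ∈ Subgroup.zpowers D.b → p ^ γ ∣ l := by
      intro l hl
      rw [hgd, mul_pow_geom (hs _ (Subgroup.mem_zpowers _))] at hl
      have h1 := mul_mem hl (inv_mem (pow_mem (zpow_mem (Subgroup.mem_zpowers D.b) k) l))
      rw [mul_inv_cancel_right] at h1
      obtain ⟨t, ht⟩ := h1
      simp only at ht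
      obtain ⟨v, rfl⟩ := (hbord t).mp (ht ▸ pow_mem (Subgroup.mem_zpowers D.a) _)
      rw [← Nat.cast_pow, zpow_mul, zpow_natCast, hw, ← zpow_natCast, ← zpow_natCast D.a, ← zpow_mul,
        ← mul_inv_eq_one, ← zpow_sub, D.zpow_a_eq_one_iff] at ht
      have h2 : ((p ^ γ : ℕ) : ℤ) ∣ (geom s l : ℤ) := by
        have h3 : (p : ℤ) ^ γ ∣ ((p ^ γ * w' : ℕ) : ℤ) * v := by
          push_cast; exact Dvd.dvd.mul_right (dvd_mul_right _ _) v
        have h4 := dvd_sub h3 ((pow_dvd_pow _ hγα.le).trans ht)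
        rw [sub_sub_cancel] at h4
        exact_mod_cast h4
      rw [Int.natCast_dvd_natCast, dvd_geom_iff hpp hp hs1 hps] at h2
      exact h2
    have hordg : orderOf g = p ^ γ :=
      Nat.dvd_antisymm (orderOf_dvd_of_pow_eq_one hgpow)
        (hmeet _ (by rw [pow_orderOf_eq_one]; exact one_mem _))
    have hordb : orderOf D.b = p ^ (D.β + (D.α - γ)) := by
      have h1 : ∀ l : ℕ, D.b ^ (p ^ D.β * l) = 1 ↔ p ^ (D.α - γ) ∣ l := by
        intro l
        rw [pow_mul, hw, ← pow_mul, ← orderOf_dvd_iff_pow_eq_one, D.hα,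
          show p ^ D.α = p ^ γ * p ^ (D.α - γ) by rw [← pow_add, Nat.add_sub_cancel' hγα.le],
          mul_assoc, Nat.mul_dvd_mul_iff_left (pow_pos hpp.pos _)]
        exact ⟨fun h => (Nat.Coprime.pow_left _ (hpp.coprime_iff_not_dvd.2 hw')).dvd_of_dvd_mul_left h,
          fun h => h.mul_left _⟩
      refine Nat.dvd_antisymm (orderOf_dvd_of_pow_eq_one ?_) ?_
      · rw [pow_add]; exact (h1 _).mpr dvd_rfl
      · have h2 : (p : ℤ) ^ D.β ∣ (orderOf D.b : ℤ) :=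
          (hbord _).mp (by rw [zpow_natCast, pow_orderOf_eq_one]; exact one_mem _)
        rw [← Nat.cast_pow, Int.natCast_dvd_natCast] at h2
        obtain ⟨v, hv⟩ := h2
        rw [hv, pow_add]
        exact mul_dvd_mul_left _ ((h1 v).mp (by rw [← hv, pow_orderOf_eq_one]))
    refine ⟨Subgroup.zpowers g, Subgroup.zpowers D.b, inferInstance, inferInstance, ?_, ?_⟩
    · rw [eq_bot_iff]
      rintro x ⟨hxg, hxb⟩
      obtain ⟨l, rfl⟩ := (mem_powers_iff_mem_zpowers.mpr hxg : x ∈ Submonoid.powers g)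
      obtain ⟨v, rfl⟩ := hmeet l hxb
      simp [pow_mul, hgpow]
    · rw [Nat.card_zpowers, Nat.card_zpowers, hordg, hordb, D.card_eq, ← pow_add]
      congr 1
      omega

end CfsgLib.MetacyclicPGroup.Data
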